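import Mathlib

/-!
# The Diophantine equation of the homocyclic principal block
-/

set_option autoImplicit false

namespace CfsgLib.HomocyclicBlock

/-- The only solution with `u, v ≡ 1 (mod 16)`. -/
theorem eq_one_of_equation (u v : ℤ) (hu : (16 : ℤ) ∣ u - 1) (hv : (16 : ℤ) ∣ v - 1)
    (h : (u + v) * (u + 1) * (v + 1) = 8 * (u * v)) : u = 1 ∧ v = 1 := by
  obtain ⟨a, ha⟩ := hu
  obtain ⟨b, hb⟩ := hv
  obtain rfl : u = 16 * a + 1 := by omega
  obtain rfl : v = 16 * b + 1 := by omega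
  suffices a = 0 ∧ b = 0 by omega
  rcases lt_trichotomy a 0 with ha | rfl | ha <;> rcases lt_trichotomy b 0 with hb | rfl | hb
  · exfalso
    nlinarith [mul_pos_of_neg_of_neg (show 16 * a + 2 < 0 by omega) (show 16 * b + 2 < 0 by omega),
      mul_pos_of_neg_of_neg (show 16 * a + 1 < 0 by omega) (show 16 * b + 1 < 0 by omega)]
  · exfalso; nlinarith
  · exfalso
    by_cases hs : a + b ≥ 1
    · nlinarith [mul_pos (show (0 : ℤ) < 16 * b + 2 by omega) (show (0 : ℤ) < -(16 * a + 2) by omega)]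
    · nlinarith [mul_pos (show (0 : ℤ) < 16 * b + 2 by omega) (show (0 : ℤ) < -(16 * a + 2) by omega)]
  · exfalso; nlinarith
  · exact ⟨rfl, rfl⟩
  · exfalso; nlinarith
  · exfalso
    by_cases hs : a + b ≥ 1
    · nlinarith [mul_pos (show (0 : ℤ) < 16 * a + 2 by omega) (show (0 : ℤ) < -(16 * b + 2) by omega)]
    · nlinarith [mul_pos (show (0 : ℤ) < 16 * a + 2 by omega) (show (0 : ℤ) < -(16 * b + 2) by omega)]
  · exfalso; nlinarith
  · exfalso
    nlinarith [mul_pos (show (0 : ℤ) < 16 * a + 1 by omega) (show (0 : ℤ) < 16 * b + 1 by omega)]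

end CfsgLib.HomocyclicBlock
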