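import Cfsg.Agent.HomocyclicBlock.Local

/-!
# Orbit sums of linear characters of `C × C` under an automorphism of order three
-/

set_option autoImplicit false
set_option linter.style.haveILetI false

namespace CfsgLib.HomocyclicBlock

universe u

variable {G : Type u} [Group G] [Finite G] {P : Sylow 2 G}

/-- Three square roots of unity with product one. -/
theorem sq_sum_three {a b c : ℂ} (ha : a * a = 1) (hb : b * b = 1) (hc : c * c = 1)
    (h : a * b * c = 1) : (a + b + c) ^ 2 = 2 * (a + b + c) + 3 := by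
  linear_combination ha + hb + hc + 2 * c * h - 2 * a * b * hc + 2 * a * h - 2 * b * c * ha +
    2 * b * h - 2 * a * c * hb

/-- The orbit sum of a non-principal linear character at an involution. -/
theorem orbit_sum_sq {m : ℕ} (hm : 1 ≤ m)
    (e : (P : Subgroup G) ≃* Multiplicative (ZMod (2 ^ m) × ZMod (2 ^ m)))
    (h3 : (Subgroup.centralizer (P : Set G)).relIndex (Subgroup.normalizer (P : Set G)) = 3)
    (ψ : (P : Subgroup G) →* ℂˣ) (hψ : ψ ≠ 1) (t : (P : Subgroup G)) (ht : t * t = 1) :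
    (∑ᶠ ψ' ∈ {ψ' : ↥(P : Subgroup G) →* ℂˣ | ∃ n : G,
        n ∈ Subgroup.normalizer ((P : Subgroup G) : Set G) ∧
        ∀ w w' : ↥(P : Subgroup G), (w' : G) = n * w * n⁻¹ → ψ' w' = ψ w},
      ((ψ' t : ℂˣ) : ℂ)) ^ 2 =
    2 * (∑ᶠ ψ' ∈ {ψ' : ↥(P : Subgroup G) →* ℂˣ | ∃ n : G,
        n ∈ Subgroup.normalizer ((P : Subgroup G) : Set G) ∧
        ∀ w w' : ↥(P : Subgroup G), (w' : G) = n * w * n⁻¹ → ψ' w' = ψ w},
      ((ψ' t : ℂˣ) : ℂ)) + 3 := by
  classical
  obtain ⟨g, hg, hgC, hg3, hgen⟩ := exists_generator h3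
  have hfrob : ∀ w : G, w ∈ (P : Subgroup G) → g⁻¹ * w * g = w → w = 1 := fun w hw h => by
    by_contra hw1
    refine hgC ((frobenius hm e h3 w hw hw1).le ⟨Subgroup.mem_centralizer_singleton_iff.2 ?_, hg⟩)
    calc g * w = g * (g⁻¹ * w * g) := by rw [h]
      _ = w * g := by group
  have hcomm : ∀ a b : (P : Subgroup G), a * b = b * a := fun a b =>
    Subtype.ext (comm_of_equiv e a.2 b.2)
  -- conjugation
  have hmemP : ∀ {n : G}, n ∈ Subgroup.normalizer (P : Set G) → ∀ w : (P : Subgroup G),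
      n⁻¹ * (w : G) * n ∈ (P : Subgroup G) := fun {n} hn w => by
    simpa using (Subgroup.mem_normalizer_iff.1 (inv_mem hn) (w : G)).1 w.2
  let κ : (n : G) → n ∈ Subgroup.normalizer (P : Set G) → ((P : Subgroup G) →* (P : Subgroup G)) :=
    fun n hn => MonoidHom.mk' (fun w => ⟨n⁻¹ * (w : G) * n, hmemP hn w⟩)
      fun a b => Subtype.ext (by simp [mul_assoc])
  have hfixC : ∀ {c : G}, c ∈ Subgroup.centralizer (P : Set G) → ∀ w : (P : Subgroup G),
      c⁻¹ * (w : G) * c = w := fun {c} hc w => by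
    rw [mul_assoc, Subgroup.mem_centralizer_iff.1 hc w w.2, inv_mul_cancel_left]
  set c₁ := κ g hg
  set c₂ := κ g⁻¹ (inv_mem hg)
  have hc12 : ∀ w, c₁ (c₂ w) = w := fun w => Subtype.ext (by
    show g⁻¹ * (g⁻¹⁻¹ * (w : G) * g⁻¹) * g = w
    group)
  have hc21 : ∀ w, c₂ (c₁ w) = w := fun w => Subtype.ext (by
    show g⁻¹⁻¹ * (g⁻¹ * (w : G) * g) * g⁻¹ = w
    group)
  have hc11 : ∀ w, c₁ (c₁ w) = c₂ w := fun w => Subtype.ext (by
    show g⁻¹ * (g⁻¹ * (w : G) * g) * g = g⁻¹⁻¹ * (w : G) * g⁻¹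
    calc g⁻¹ * (g⁻¹ * (w : G) * g) * g = g * ((g ^ 3)⁻¹ * w * g ^ 3) * g⁻¹ := by
          simp only [pow_succ, pow_zero, one_mul, mul_inv_rev, mul_assoc, mul_inv_cancel_left,
            mul_inv_cancel, mul_one]
      _ = g⁻¹⁻¹ * (w : G) * g⁻¹ := by rw [hfixC hg3, inv_inv])
  -- no fixed points on characters
  have hne : ψ.comp c₁ ≠ ψ := by
    intro h
    refine hψ (MonoidHom.ext fun w => ?_)
    let φ : (P : Subgroup G) →* (P : Subgroup G) := MonoidHom.mk' (fun w => c₁ w * w⁻¹)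
      fun a b => by rw [map_mul, mul_inv_rev, hcomm b⁻¹ a⁻¹, mul_assoc, mul_assoc,
        ← mul_assoc (c₁ b), hcomm (c₁ b) a⁻¹, mul_assoc]
    have hφ : Function.Injective φ := by
      rw [injective_iff_map_eq_one]
      intro w hw
      exact Subtype.ext (hfrob w w.2 (congrArg Subtype.val (mul_inv_eq_one.1 hw)))
    obtain ⟨v, rfl⟩ := (Finite.injective_iff_surjective.1 hφ) w
    show ψ (c₁ v * v⁻¹) = 1
    rw [map_mul, map_inv, show ψ (c₁ v) = ψ v from DFunLike.congr_fun h v, mul_inv_cancel]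
  have hne' : ψ.comp c₂ ≠ ψ := fun h => hne (MonoidHom.ext fun w => by
    have := DFunLike.congr_fun h (c₁ w)
    rw [MonoidHom.comp_apply, hc21] at this
    exact this.symm)
  have hne'' : ψ.comp c₁ ≠ ψ.comp c₂ := fun h => hne' (MonoidHom.ext fun w => by
    have := DFunLike.congr_fun h (c₁ w)
    rw [MonoidHom.comp_apply, MonoidHom.comp_apply, hc21, hc11] at this
    exact this)
  -- the orbit
  have horb : {ψ' : ↥(P : Subgroup G) →* ℂˣ | ∃ n : G,
        n ∈ Subgroup.normalizer ((P : Subgroup G) : Set G) ∧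
        ∀ w w' : ↥(P : Subgroup G), (w' : G) = n * w * n⁻¹ → ψ' w' = ψ w} =
      (↑({ψ, ψ.comp c₁, ψ.comp c₂} : Finset ((P : Subgroup G) →* ℂˣ)) : Set _) := by
    ext χ
    simp only [Set.mem_ofPred_eq, Finset.coe_insert, Finset.coe_singleton, Set.mem_insert_iff,
      Set.mem_singleton_iff]
    constructor
    · rintro ⟨n, hn, h⟩
      have hχ : χ = ψ.comp (κ n hn) := MonoidHom.ext fun w => by
        exact h (κ n hn w) w (by show (w : G) = n * (n⁻¹ * (w : G) * n) * n⁻¹; group)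
      rcases hgen n hn with hC | hC | hC
      · exact Or.inl (hχ.trans (MonoidHom.ext fun w => congrArg ψ (Subtype.ext (hfixC hC w))))
      · refine Or.inr (Or.inl (hχ.trans (MonoidHom.ext fun w => congrArg ψ (Subtype.ext ?_))))
        show n⁻¹ * (w : G) * n = g⁻¹ * (w : G) * g
        exact Eq.trans (by group) (hfixC hC ⟨_, hmemP hg w⟩)
      · refine Or.inr (Or.inr (hχ.trans (MonoidHom.ext fun w => congrArg ψ (Subtype.ext ?_))))
        show n⁻¹ * (w : G) * n = g⁻¹⁻¹ * (w : G) * g⁻¹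
        exact Eq.trans (by group) (hfixC hC ⟨_, hmemP (inv_mem hg) w⟩)
    · rintro (rfl | rfl | rfl)
      · exact ⟨1, one_mem _, fun w w' h => by rw [Subtype.ext (h.trans (by group)) (a2 := w)]⟩
      · refine ⟨g, hg, fun w w' h => congrArg ψ (Subtype.ext ?_)⟩
        show g⁻¹ * (w' : G) * g = w
        rw [h]; group
      · refine ⟨g⁻¹, inv_mem hg, fun w w' h => congrArg ψ (Subtype.ext ?_)⟩
        show g⁻¹⁻¹ * (w' : G) * g⁻¹ = w
        rw [h]; group
  rw [horb, finsum_mem_coe_finset, Finset.sum_insert (by simp [hne.symm, hne'.symm]),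
    Finset.sum_insert (by simp [hne'']), Finset.sum_singleton, ← add_assoc]
  have hsq : ∀ v : (P : Subgroup G), v * v = 1 → ((ψ v : ℂˣ) : ℂ) * ((ψ v : ℂˣ) : ℂ) = 1 :=
    fun v hv => by rw [← Units.val_mul, ← map_mul, hv, map_one, Units.val_one]
  refine sq_sum_three (hsq t ht) (hsq _ (by rw [← map_mul, ht, map_one]))
    (hsq _ (by rw [← map_mul, ht, map_one])) ?_
  rw [MonoidHom.comp_apply, MonoidHom.comp_apply, ← Units.val_mul, ← Units.val_mul, ← map_mul,
    ← map_mul]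
  have hfix : c₁ (t * c₁ t * c₂ t) = t * c₁ t * c₂ t := by
    rw [map_mul, map_mul, hc11, hc12, hcomm (c₁ t * c₂ t) t, mul_assoc]
  have h1 : t * c₁ t * c₂ t = 1 :=
    Subtype.ext (hfrob _ (t * c₁ t * c₂ t).2 (congrArg Subtype.val hfix))
  rw [h1, map_one, Units.val_one]

end CfsgLib.HomocyclicBlock
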