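import Cfsg.Agent.Eq.Def_Blocks
import Cfsg.Agent.HomocyclicBlock.Arith
import Cfsg.Agent.HomocyclicBlock.Orbit
import Cfsg.Agent.Blocks.Orth.InvolutionColumns
import Cfsg.Agent.Blocks.Basic.Principal
import Cfsg.Agent.Chars.Basic.Linear
import Cfsg.Agent.Chars.Basic.Columns

/-!
# A non-principal linear character in the principal block

For a Sylow 2-subgroup `C × C` with `|N : C| = 3` the exceptional description of the principal block
and the columns of involutions force two further linear characters.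
-/

set_option autoImplicit false
set_option linter.style.haveILetI false

namespace CfsgLib.HomocyclicBlock

open Cfsg CfsgLib.Blocks
open scoped ComplexConjugate

universe u

variable {G : Type u} [Group G] [Finite G]

/-- A character constant off `1` on a subgroup has degree congruent to that constant. -/
theorem card_dvd_degree_sub (H : Subgroup G) (χ : IrrCharacter G) (c : ℤ)
    (h : ∀ y ∈ H, y ≠ 1 → (χ : G → ℂ) y = c) :
    (Nat.card H : ℤ) ∣ (charDegree (χ : G → ℂ) : ℤ) - c := by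
  classical
  haveI := Fintype.ofFinite G
  haveI := Fintype.ofFinite H
  obtain ⟨k, hk⟩ := Chars.exists_nat_classInner
    (Chars.isCharacter_restrict (Chars.isCharacter_coe χ) H) (Chars.linChar 1)
  have hne : (Nat.card H : ℂ) ≠ 0 := Nat.cast_ne_zero.2 Nat.card_pos.ne'
  have hpos : 1 ≤ Nat.card H := Nat.card_pos
  rw [classInner, inv_mul_eq_iff_eq_mul₀ hne] at hk
  rw [← Finset.add_sum_erase _ _ (Finset.mem_univ (1 : H)),
    Finset.sum_congr rfl (g := fun _ => (c : ℂ)) (fun y hy => by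
      rw [h y y.2 fun h1 => (Finset.mem_erase.1 hy).1 (Subtype.ext h1)]; simp),
    Finset.sum_const, Finset.card_erase_of_mem (Finset.mem_univ _), Finset.card_univ,
    ← Nat.card_eq_fintype_card, nsmul_eq_mul, Nat.cast_sub hpos] at hk
  simp only [OneMemClass.coe_one, Chars.linChar_apply, map_one, Units.val_one, mul_one,
    ← Chars.coe_charDegree, Nat.cast_one] at hk
  refine ⟨(k : ℤ) - c, ?_⟩
  have h' : ((charDegree (χ : G → ℂ) : ℤ) - c : ℂ) = (((Nat.card H : ℤ) * ((k : ℤ) - c) : ℤ) : ℂ) := by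
    push_cast
    linear_combination hk
  exact_mod_cast h'

theorem exists_normal_proper {M : Ideal AlgInt} (hM : IsPModular 2 M) (P : Sylow 2 G) {m : ℕ}
    (hm : 2 ≤ m) (e : (P : Subgroup G) ≃* Multiplicative (ZMod (2 ^ m) × ZMod (2 ^ m)))
    (h3 : (Subgroup.centralizer (P : Set G)).relIndex (Subgroup.normalizer (P : Set G)) = 3)
    (hdata : ∃ (s : ℕ) (X Y : Set (Cfsg.IrrCharacter G)), s ≤ 3 ∧ Cfsg.principalBlock M G = X ∪ Y ∧ Disjoint X Y ∧ Nat.card X = s ∧ Nat.card Y = (Nat.card P - 1) / 3 ∧ (∃ χ₁ ∈ X, (χ₁ : G → ℂ) = fun _ => 1) ∧ ∃ (a : Cfsg.IrrCharacter G → ℤ) (d δ : ℤ) (ζ : (↥(P : Subgroup G) →* ℂˣ) → Cfsg.IrrCharacter G), (δ = 1 ∨ δ = -1) ∧ (∀ χ ∈ X, a χ ≠ 0 ∧ ∀ z y : G, Cfsg.IsPPart 2 z y → y ∈ (P : Subgroup G) → y ≠ 1 → (χ : G → ℂ) z = (a χ : ℂ)) ∧ (∀ η ∈ Y, ∃ ψ : ↥(P : Subgroup G) →* ℂˣ, ψ ≠ 1 ∧ ζ ψ = η) ∧ (∀ ψ : ↥(P : Subgroup G) →* ℂˣ, ψ ≠ 1 → ∀ (z : G) (y : ↥(P : Subgroup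 G)), Cfsg.IsPPart 2 z (y : G) → (y : G) ≠ 1 → (ζ ψ : G → ℂ) z = (d : ℂ) + (δ : ℂ) * ∑ᶠ ψ' ∈ {ψ' : ↥(P : Subgroup G) →* ℂˣ | ∃ n : G, n ∈ Subgroup.normalizer ((P : Subgroup G) : Set G) ∧ ∀ w w' : ↥(P : Subgroup G), (w' : G) = n * w * n⁻¹ → ψ' w' = ψ w}, ((ψ' y : ℂˣ) : ℂ)) ∧ ((d - δ) ^ 2 + (((Nat.card P : ℤ) - 1) / 3 - 1) * d ^ 2 + ∑ᶠ χ ∈ X, a χ ^ 2 = 4) ∧ (∀ η ∈ Y, ∀ η' ∈ Y, ∀ g : G, ¬ 2 ∣ orderOf g → (η : G → ℂ) g = (η' : G → ℂ) g) ∧ (∀ η ∈ Y, ∀ g : G, ¬ 2 ∣ orderOf g → ((((Nat.card P - 1) / 3 : ℕ) : ℂ) * d - δ) * (η : G → ℂ) g + ∑ᶠ χ ∈ X, (a χ : ℂ) * (χ : G → ℂ) g = 0)) :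
    ∃ K : Subgroup G, K.Normal ∧ (P : Subgroup G) ≤ K ∧ K ≠ ⊤ := by
  classical
  haveI : Fact (Nat.Prime 2) := ⟨Nat.prime_two⟩
  haveI := Fintype.ofFinite G
  obtain ⟨s, X, Y, hs, hB, hdisj, hXc, hYc, ⟨χ₁, hχ₁, hone⟩, a, d, δ, ζ, hδ, ha, hsurj, hval, hsum,
    hreg, hrel⟩ := hdata
  have hcard : Nat.card (P : Subgroup G) = 2 ^ m * 2 ^ m := card_sylow e
  have h4 : 4 ≤ 2 ^ m := le_trans (by norm_num) (Nat.pow_le_pow_right two_pos hm)
  have h16 : 16 ∣ Nat.card (P : Subgroup G) :=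
    hcard ▸ (mul_dvd_mul (pow_dvd_pow 2 hm) (pow_dvd_pow 2 hm) : 2 ^ 2 * 2 ^ 2 ∣ _)
  have h16' : 16 ≤ Nat.card (P : Subgroup G) := Nat.le_of_dvd Nat.card_pos h16
  -- two elements of the Sylow subgroup
  obtain ⟨t, ht⟩ := exists_prime_orderOf_dvd_card' (G := (P : Subgroup G)) 2
    (dvd_trans (by norm_num) h16)
  have ht2 : t * t = 1 := (pow_two t).symm.trans (orderOf_dvd_iff_pow_eq_one.1 (dvd_of_eq ht))
  have htG : orderOf (t : G) = 2 := by rw [Subgroup.orderOf_coe, ht]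
  have ht1 : (t : G) ≠ 1 := fun h => by rw [h, orderOf_one] at htG; omega
  set y : (P : Subgroup G) := e.symm (Multiplicative.ofAdd ((1 : ZMod (2 ^ m)), 0)) with hy
  have hy2 : (y : G) * (y : G) ≠ 1 := by
    intro h
    have h' : y * y = 1 := Subtype.ext h
    rw [hy, ← map_mul, ← ofAdd_add, MulEquiv.map_eq_one_iff, ofAdd_eq_one, Prod.mk_add_mk,
      Prod.mk_eq_zero, one_add_one_eq_two] at h'
    have h2 : ((2 : ℕ) : ZMod (2 ^ m)) = 0 := by simpa using h'.1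
    rw [ZMod.natCast_eq_zero_iff] at h2
    have := Nat.le_of_dvd two_pos h2
    omega
  have hy1 : (y : G) ≠ 1 := fun h => hy2 (by rw [h, one_mul])
  have hpp : ∀ w : (P : Subgroup G), IsPPart 2 (w : G) (w : G) := fun w => by
    obtain ⟨k, hk⟩ := IsPGroup.iff_orderOf.1 P.isPGroup' w
    exact ⟨1, mul_one _, Commute.one_right _, ⟨k, by rw [Subgroup.orderOf_coe, hk]⟩, by simp⟩
  -- the coefficients
  set Xf := X.toFinite.toFinset
  set Yf := Y.toFinite.toFinset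
  have hXf : ∀ χ, χ ∈ Xf ↔ χ ∈ X := fun χ => Set.Finite.mem_toFinset _
  have hYf : ∀ χ, χ ∈ Yf ↔ χ ∈ Y := fun χ => Set.Finite.mem_toFinset _
  have hsplit : ∀ F : IrrCharacter G → ℂ, ∑ χ ∈ (principalBlock M G).toFinite.toFinset, F χ =
      ∑ χ ∈ Xf, F χ + ∑ χ ∈ Yf, F χ := fun F => by
    rw [← Finset.sum_union (Set.Finite.disjoint_toFinset.2 hdisj)]
    exact Finset.sum_congr (by ext χ; simp [hB, hXf, hYf]) fun _ _ => rfl
  have ha1 : a χ₁ = 1 := by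
    have := (ha χ₁ hχ₁).2 y y (hpp y) y.2 hy1
    rw [hone] at this
    exact Int.cast_eq_one.1 this.symm
  rw [finsum_mem_eq_finite_toFinset_sum _ X.toFinite] at hsum
  have hsq1 : ∀ χ ∈ Xf, 1 ≤ a χ ^ 2 := fun χ hχ => by
    have := sq_pos_of_ne_zero (ha χ ((hXf χ).1 hχ)).1
    omega
  have hd : d = 0 := by
    by_contra hd
    have h1 : (1 : ℤ) ≤ ∑ χ ∈ Xf, a χ ^ 2 := le_trans (hsq1 χ₁ ((hXf χ₁).2 hχ₁))
      (Finset.single_le_sum (f := fun χ => a χ ^ 2) (fun χ _ => sq_nonneg _) ((hXf χ₁).2 hχ₁))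
    have h2 : 1 ≤ d ^ 2 := by have := sq_pos_of_ne_zero hd; omega
    have h3' : (4 : ℤ) ≤ ((Nat.card (P : Subgroup G) : ℤ) - 1) / 3 - 1 := by omega
    nlinarith [sq_nonneg (d - δ)]
  subst hd
  have hδ2 : δ * δ = 1 := by rcases hδ with rfl | rfl <;> norm_num
  have hX3 : ∑ χ ∈ Xf, a χ ^ 2 = 3 := by nlinarith
  have hpm : ∀ χ ∈ Xf, a χ ^ 2 = 1 := fun χ hχ => by
    have h1 := Finset.single_le_sum (f := fun χ => a χ ^ 2) (fun χ _ => sq_nonneg _) hχ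
    have h2 := hsq1 χ hχ
    have h3' : a χ ≤ 1 := by nlinarith
    have h4' : -1 ≤ a χ := by nlinarith
    interval_cases hh : a χ <;> simp at h2 ⊢
  have hXcard : Xf.card = 3 := by
    rw [Finset.sum_congr rfl hpm, Finset.sum_const, nsmul_eq_mul, mul_one] at hX3
    exact_mod_cast hX3
  obtain ⟨χ₂, χ₃, h23, herase⟩ := Finset.card_eq_two.1
    (show (Xf.erase χ₁).card = 2 by rw [Finset.card_erase_of_mem ((hXf χ₁).2 hχ₁), hXcard])
  have hm2 : χ₂ ∈ Xf.erase χ₁ := by simp [herase]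
  have hm3 : χ₃ ∈ Xf.erase χ₁ := by simp [herase]
  have hXsum : ∀ F : IrrCharacter G → ℂ, ∑ χ ∈ Xf, F χ = F χ₁ + (F χ₂ + F χ₃) := fun F => by
    rw [← Finset.add_sum_erase _ _ ((hXf χ₁).2 hχ₁), herase, Finset.sum_pair h23]
  -- the exceptional characters
  obtain ⟨η₀, hη₀⟩ : Y.Nonempty := by
    rw [Set.nonempty_iff_ne_empty]
    intro h
    rw [h, Nat.card_coe_set_eq, Set.ncard_empty] at hYc
    omega
  set f := charDegree (η₀ : G → ℂ) with hf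
  have hfpos : (f : ℂ) ≠ 0 := Nat.cast_ne_zero.2 (Chars.charDegree_pos η₀).ne'
  have h1reg : ¬ 2 ∣ orderOf (1 : G) := by simp
  have hY1 : ∀ η ∈ Yf, (η : G → ℂ) 1 = f := fun η hη => by
    rw [hreg η ((hYf η).1 hη) η₀ hη₀ 1 h1reg, hf, Chars.coe_charDegree]
  have hYt : ∀ η ∈ Yf, (η : G → ℂ) t ^ 2 = 2 * δ * (η : G → ℂ) t + 3 := fun η hη => by
    obtain ⟨ψ, hψ, rfl⟩ := hsurj η ((hYf η).1 hη)
    rw [hval ψ hψ t t (hpp t) ht1, Int.cast_zero, zero_add, mul_pow,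
      orbit_sum_sq (by omega) e h3 ψ hψ t ht2]
    have h : (δ : ℂ) * δ = 1 := by exact_mod_cast hδ2
    linear_combination 3 * h
  have hXval : ∀ χ ∈ Xf, ∀ w : (P : Subgroup G), (w : G) ≠ 1 → (χ : G → ℂ) w = (a χ : ℂ) :=
    fun χ hχ w hw => (ha χ ((hXf χ).1 hχ)).2 w w (hpp w) w.2 hw
  -- the columns
  obtain ⟨c1, c2, c3⟩ := columns_vanish hM (isPBlock_principalBlock (M := M) (G := G)) htG
    (y := (y : G)) (by
      obtain ⟨k, hk⟩ := IsPGroup.iff_orderOf.1 P.isPGroup' y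
      exact ⟨k, by rw [Subgroup.orderOf_coe, hk]⟩)
    (fun g => not_inverts e
      ((orderOf_injective (MulAut.conj g).toMonoidHom (MulAut.conj g).injective (t : G)).trans htG)
      y.2 hy2)
  set D1 := ∑ η ∈ Yf, conj ((η : G → ℂ) y)
  set D2 := ∑ η ∈ Yf, (η : G → ℂ) t * conj ((η : G → ℂ) y)
  have hdeg : -(δ : ℂ) * f + ∑ χ ∈ Xf, (a χ : ℂ) * (χ : G → ℂ) 1 = 0 := by
    have h := hrel η₀ hη₀ 1 h1reg
    rw [finsum_mem_eq_finite_toFinset_sum _ X.toFinite, Int.cast_zero, mul_zero, zero_sub,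
      ← Chars.coe_charDegree] at h
    exact h
  have e3 : 3 + D2 = 0 := by
    rw [hsplit, Finset.sum_congr rfl (g := fun χ => ((a χ ^ 2 : ℤ) : ℂ)) (fun χ hχ => by
      rw [hXval χ hχ t ht1, hXval χ hχ y hy1, map_intCast]; push_cast; ring),
      ← Int.cast_sum, hX3] at c3
    exact_mod_cast c3
  have e2 : (δ : ℂ) * f + f * D1 = 0 := by
    rw [hsplit, Finset.sum_congr rfl (g := fun χ : IrrCharacter G => (a χ : ℂ) * (χ : G → ℂ) 1) (fun χ hχ => by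
      rw [hXval χ hχ y hy1, map_intCast]; ring),
      Finset.sum_congr (s₁ := Yf) rfl (g := fun η : IrrCharacter G => (f : ℂ) * conj ((η : G → ℂ) y))
        (fun η hη => by rw [hY1 η hη]), ← Finset.mul_sum] at c2
    linear_combination c2 - hdeg
  have hD1 : D1 = -(δ : ℂ) := by
    refine mul_left_cancel₀ hfpos ?_
    linear_combination e2
  have hinv : ∀ χ ∈ Xf, ∀ (b : ℤ), b = a χ →
      ((a χ : ℂ) ^ 2) / (χ : G → ℂ) 1 * conj ((a χ : ℂ)) =
        1 / (((b * (charDegree (χ : G → ℂ) : ℤ) : ℤ)) : ℂ) := by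
    intro χ hχ b hb
    subst hb
    have h : ((a χ : ℂ)) * (a χ : ℂ) = 1 := by
      have := hpm χ hχ
      rw [pow_two] at this
      exact_mod_cast this
    have hne : (a χ : ℂ) ≠ 0 := fun h0 => by simp [h0] at h
    rw [map_intCast, ← Chars.coe_charDegree]
    push_cast
    field_simp
    rw [show (a χ : ℂ) ^ 4 = ((a χ : ℂ) * a χ) ^ 2 by ring, h, one_pow]
  set u := a χ₂ * (charDegree (χ₂ : G → ℂ) : ℤ) with hu
  set v := a χ₃ * (charDegree (χ₃ : G → ℂ) : ℤ) with hv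
  have hX2 := Finset.mem_of_mem_erase hm2
  have hX3' := Finset.mem_of_mem_erase hm3
  have hu0 : u ≠ 0 := mul_ne_zero (ha _ ((hXf _).1 hX2)).1
    (by exact_mod_cast (Chars.charDegree_pos χ₂).ne')
  have hv0 : v ≠ 0 := mul_ne_zero (ha _ ((hXf _).1 hX3')).1
    (by exact_mod_cast (Chars.charDegree_pos χ₃).ne')
  have hu0' : (u : ℂ) ≠ 0 := Int.cast_ne_zero.2 hu0
  have hv0' : (v : ℂ) ≠ 0 := Int.cast_ne_zero.2 hv0
  have hd1 : (1 : ℂ) + (u + v) = δ * f := by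
    rw [hXsum, ha1, hone, ← Chars.coe_charDegree, ← Chars.coe_charDegree] at hdeg
    rw [hu, hv]
    push_cast at hdeg ⊢
    linear_combination hdeg
  have e1 : (1 : ℂ) + (1 / (u : ℂ) + 1 / (v : ℂ)) = 9 * δ / f := by
    rw [hsplit, Finset.sum_congr rfl
      (g := fun χ : IrrCharacter G => (a χ : ℂ) ^ 2 / (χ : G → ℂ) 1 * conj ((a χ : ℂ))) (fun χ hχ => by
        rw [hXval χ hχ t ht1, hXval χ hχ y hy1]),
      Finset.sum_congr (s₁ := Yf) rfl (g := fun η : IrrCharacter G => (2 * (δ : ℂ) / f) *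
          ((η : G → ℂ) t * conj ((η : G → ℂ) y)) + (3 / (f : ℂ)) * conj ((η : G → ℂ) y))
        (fun η hη => by rw [hY1 η hη, hYt η hη]; ring),
      Finset.sum_add_distrib, ← Finset.mul_sum, ← Finset.mul_sum, hXsum, ha1,
      hinv χ₂ hX2 _ rfl, hinv χ₃ hX3' _ rfl, hone] at c1
    simp only [← hu, ← hv, Int.cast_one, map_one, one_pow, div_one, mul_one] at c1
    linear_combination c1 - (2 * (δ : ℂ) / f) * e3 - (3 / (f : ℂ)) * hD1
  have heq : (u + v) * (u + 1) * (v + 1) = 8 * (u * v) := by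
    have hc : ((u * v + u + v : ℤ) : ℂ) * ((1 + u + v : ℤ) : ℂ) = 9 * ((u * v : ℤ) : ℂ) := by
      field_simp at e1
      have hdd : (δ : ℂ) * δ = 1 := by exact_mod_cast hδ2
      push_cast
      linear_combination ((u : ℂ) * v + u + v) * hd1 + (δ : ℂ) * e1 + 9 * (u : ℂ) * v * hdd
    have hc' : (u * v + u + v) * (1 + u + v) = 9 * (u * v) := by exact_mod_cast hc
    linear_combination hc'
  have hcong : ∀ χ ∈ Xf, (16 : ℤ) ∣ a χ * (charDegree (χ : G → ℂ) : ℤ) - 1 := by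
    intro χ hχ
    have h1 := card_dvd_degree_sub (P : Subgroup G) χ (a χ) fun w hw hw1 => hXval χ hχ ⟨w, hw⟩ hw1
    have h2 : (16 : ℤ) ∣ (charDegree (χ : G → ℂ) : ℤ) - a χ :=
      dvd_trans (by exact_mod_cast h16) h1
    have h3' := hpm χ hχ
    rw [show a χ * (charDegree (χ : G → ℂ) : ℤ) - 1 =
      a χ * ((charDegree (χ : G → ℂ) : ℤ) - a χ) by rw [← h3']; ring]
    exact dvd_mul_of_dvd_right h2 _
  obtain ⟨hu1, -⟩ := eq_one_of_equation u v (hcong _ hX2) (hcong _ hX3') heq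
  -- a linear character trivial on the Sylow subgroup
  have ha2 : a χ₂ = 1 := by
    have := Chars.charDegree_pos χ₂
    rcases sq_eq_one_iff.1 (hpm χ₂ hX2) with h | h
    · exact h
    · rw [hu, h] at hu1; omega
  have hf2 : (χ₂ : G → ℂ) 1 = 1 := by
    rw [hu, ha2, one_mul] at hu1
    rw [← Chars.coe_charDegree]
    exact_mod_cast hu1
  obtain ⟨l, hl⟩ := Chars.exists_linChar_eq χ₂ hf2
  refine ⟨MonoidHom.ker l, MonoidHom.normal_ker l, fun w hw => ?_, fun htop => ?_⟩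
  · rw [MonoidHom.mem_ker]
    by_cases hw1 : w = 1
    · rw [hw1, map_one]
    apply Units.ext
    rw [Units.val_one, ← Chars.linChar_apply, hl, hXval χ₂ hX2 ⟨w, hw⟩ hw1, ha2, Int.cast_one]
  · refine Finset.ne_of_mem_erase hm2 (Subtype.ext ?_)
    rw [← hl, hone]
    funext g
    rw [Chars.linChar_apply, MonoidHom.mem_ker.1 (htop ▸ Subgroup.mem_top g), Units.val_one]

end CfsgLib.HomocyclicBlock
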