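import Cfsg.Agent.TwoGroups.Homocyclic
import Cfsg.Agent.Transfer.NormalPComplement
import Cfsg.Agent.Constrained.Basic
import Cfsg.Agent.Eq.Def_Transfer

/-!
# Groups with an abelian Sylow 2-subgroup `C × C`: local facts
-/

set_option autoImplicit false
set_option linter.style.haveILetI false

namespace CfsgLib.HomocyclicBlock

open Cfsg

universe u

variable {G : Type u} [Group G] [Finite G] {P : Sylow 2 G}

omit [Finite G] in
theorem comm_of_equiv {A : Type*} [CommGroup A] (e : (P : Subgroup G) ≃* A) {a b : G}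
    (ha : a ∈ (P : Subgroup G)) (hb : b ∈ (P : Subgroup G)) : a * b = b * a :=
  congrArg Subtype.val (e.injective (a₁ := ⟨a, ha⟩ * ⟨b, hb⟩) (a₂ := ⟨b, hb⟩ * ⟨a, ha⟩)
    (by rw [map_mul, map_mul, mul_comm]))

theorem le_centralizer_self {A : Type*} [CommGroup A] (e : (P : Subgroup G) ≃* A) :
    (P : Subgroup G) ≤ Subgroup.centralizer (P : Set G) := fun _ ha _ hb => comm_of_equiv e hb ha

omit [Finite G] in
theorem card_sylow {m : ℕ} (e : (P : Subgroup G) ≃* Multiplicative (ZMod (2 ^ m) × ZMod (2 ^ m))) :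
    Nat.card (P : Subgroup G) = 2 ^ m * 2 ^ m := by
  rw [Nat.card_congr e.toEquiv, Nat.card_congr Multiplicative.toAdd, Nat.card_prod, Nat.card_zmod]

/-- Without an odd normal subgroup, a normal complement is trivial. -/
theorem sylow_eq_top_of_le (hO : ∀ N : Subgroup G, N.Normal → Odd (Nat.card N) → N = ⊥)
    (h : Subgroup.normalizer (P : Set G) ≤ Subgroup.centralizer (P : Set G)) :
    (P : Subgroup G) = ⊤ := by
  haveI : Fact (Nat.Prime 2) := ⟨Nat.prime_two⟩
  obtain ⟨N, hN, hNP⟩ := Transfer.exists_isComplement'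
    (Transfer.hasNormalPComplement_of_normalizer_le_centralizer P h) P
  have hodd : Odd (Nat.card N) := by
    rw [Nat.odd_iff, ← Nat.two_dvd_ne_zero]
    intro h2
    exact P.not_dvd_index (hNP.index_eq_card.symm ▸ h2)
  rw [hO N hN hodd] at hNP
  exact Subgroup.isComplement'_bot_left.1 hNP

theorem pPrimeCore_eq_bot (hO : ∀ N : Subgroup G, N.Normal → Odd (Nat.card N) → N = ⊥) :
    pPrimeCore 2 G = ⊥ := by
  haveI : Fact (Nat.Prime 2) := ⟨Nat.prime_two⟩
  refine hO _ inferInstance ?_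
  rw [Nat.odd_iff, ← Nat.two_dvd_ne_zero]
  exact Constrained.pPrimeCore_not_dvd

/-- The absence of odd normal subgroups passes to normal subgroups. -/
theorem odd_normal_subgroup (hO : ∀ N : Subgroup G, N.Normal → Odd (Nat.card N) → N = ⊥)
    (K : Subgroup G) [K.Normal] : ∀ N : Subgroup K, N.Normal → Odd (Nat.card N) → N = ⊥ := by
  haveI : Fact (Nat.Prime 2) := ⟨Nat.prime_two⟩
  intro N hN hodd
  have h1 : N ≤ pPrimeCore 2 K :=
    Constrained.le_pPrimeCore_of_not_dvd hN hodd.not_two_dvd_nat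
  have h2 := (Subgroup.map_mono (f := K.subtype) h1).trans (Constrained.map_pPrimeCore_subgroup_le K)
  rw [pPrimeCore_eq_bot hO, le_bot_iff, Subgroup.map_eq_bot_iff_of_injective _ K.subtype_injective]
    at h2
  exact h2

theorem centralizer_eq_of_normal {A : Type*} [CommGroup A] (e : (P : Subgroup G) ≃* A)
    (hO : ∀ N : Subgroup G, N.Normal → Odd (Nat.card N) → N = ⊥) (hP : (P : Subgroup G).Normal) :
    Subgroup.centralizer (P : Set G) = (P : Subgroup G) := by
  haveI := hP
  set C := Subgroup.centralizer (P : Set G) with hC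
  have hPC : (P : Subgroup G) ≤ C := le_centralizer_self e
  haveI : C.Normal := by rw [hC]; exact Subgroup.normal_centralizer
  have h : ((P.subtype hPC : Sylow 2 C) : Subgroup C) = ⊤ := by
    refine sylow_eq_top_of_le (odd_normal_subgroup hO C) fun x _ => ?_
    rw [Subgroup.mem_centralizer_iff]
    intro w hw
    have hw : (w : G) ∈ (P : Subgroup G) := hw
    exact Subtype.ext (Subgroup.mem_centralizer_iff.1 x.2 w hw)
  rw [Sylow.coe_subtype, Subgroup.subgroupOf_eq_top] at h
  exact le_antisymm h hPC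

/-- In the index three case the normalizer is a Frobenius action on the Sylow subgroup. -/
theorem frobenius {m : ℕ} (hm : 1 ≤ m)
    (e : (P : Subgroup G) ≃* Multiplicative (ZMod (2 ^ m) × ZMod (2 ^ m)))
    (h3 : (Subgroup.centralizer (P : Set G)).relIndex (Subgroup.normalizer (P : Set G)) = 3)
    (y : G) (hy : y ∈ (P : Subgroup G)) (hy1 : y ≠ 1) :
    Subgroup.centralizer ({y} : Set G) ⊓ Subgroup.normalizer (P : Set G) =
      Subgroup.centralizer (P : Set G) := by
  refine le_antisymm ?_ (le_inf (fun x hx => Subgroup.mem_centralizer_singleton_iff.2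
    (Subgroup.mem_centralizer_iff.1 hx y hy).symm) (Subgroup.centralizer_le_normalizer _))
  rintro g ⟨hgy, hgN⟩
  have hgy' : Commute g y := Subgroup.mem_centralizer_singleton_iff.1 hgy
  obtain ⟨k, hk⟩ := IsPGroup.iff_orderOf.1 P.isPGroup' ⟨y, hy⟩
  rw [Subgroup.orderOf_mk] at hk
  have hk0 : k ≠ 0 := fun h => hy1 (orderOf_eq_one_iff.1 (by rw [hk, h, pow_zero]))
  obtain ⟨j, rfl⟩ := Nat.exists_eq_succ_of_ne_zero hk0
  refine ((TwoGroups.Homocyclic.normalizer_data P m hm e).2 (by rw [h3]; norm_num)).1 g hgN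
    (y ^ 2 ^ j) (pow_mem hy _) ?_ ?_ (mul_inv_eq_iff_eq_mul.2 (hgy'.pow_right _).eq)
  · rw [← pow_two, ← pow_mul, ← pow_succ, ← hk, pow_orderOf_eq_one]
  · intro h
    have h' := Nat.le_of_dvd (by positivity) (orderOf_dvd_of_pow_eq_one h)
    rw [hk, pow_succ] at h'
    have : 0 < 2 ^ j := by positivity
    omega

/-- The normalizer modulo the centralizer, of order three. -/
theorem exists_generator
    (h3 : (Subgroup.centralizer (P : Set G)).relIndex (Subgroup.normalizer (P : Set G)) = 3) :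
    ∃ g ∈ Subgroup.normalizer (P : Set G), g ∉ Subgroup.centralizer (P : Set G) ∧
      g ^ 3 ∈ Subgroup.centralizer (P : Set G) ∧
      ∀ n ∈ Subgroup.normalizer (P : Set G), n ∈ Subgroup.centralizer (P : Set G) ∨
        g⁻¹ * n ∈ Subgroup.centralizer (P : Set G) ∨ g * n ∈ Subgroup.centralizer (P : Set G) := by
  classical
  set N := Subgroup.normalizer (P : Set G) with hN
  set C := Subgroup.centralizer (P : Set G) with hC
  haveI : (C.subgroupOf N).Normal := by
    refine ⟨fun x hx n => ?_⟩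
    rw [Subgroup.mem_subgroupOf, hC, Subgroup.mem_centralizer_iff] at hx ⊢
    intro w hw
    have hw' : (n : G)⁻¹ * w * n ∈ (P : Subgroup G) := by
      simpa using (Subgroup.mem_normalizer_iff.1 (inv_mem n.2) w).1 hw
    have h := hx _ hw'
    simp only [Subgroup.coe_mul, Subgroup.coe_inv]
    calc w * ((n : G) * x * (n : G)⁻¹) = n * ((n : G)⁻¹ * w * n * x) * (n : G)⁻¹ := by group
      _ = n * (x * ((n : G)⁻¹ * w * n)) * (n : G)⁻¹ := by rw [h]
      _ = (n : G) * x * (n : G)⁻¹ * w := by group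
  have hQ : Nat.card (N ⧸ C.subgroupOf N) = 3 := h3
  haveI : Nontrivial (N ⧸ C.subgroupOf N) := Finite.one_lt_card_iff_nontrivial.1 (by rw [hQ]; norm_num)
  obtain ⟨q, hq⟩ := exists_ne (1 : N ⧸ C.subgroupOf N)
  obtain ⟨⟨g, hg⟩, rfl⟩ := QuotientGroup.mk_surjective q
  have hmem : ∀ (x : G) (hx : x ∈ N), ((⟨x, hx⟩ : N) : N ⧸ C.subgroupOf N) = 1 ↔ x ∈ C :=
    fun x hx => (QuotientGroup.eq_one_iff _).trans Subgroup.mem_subgroupOf
  refine ⟨g, hg, fun h => hq ((hmem g hg).2 h), ?_, fun n hn => ?_⟩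
  · have := Subgroup.pow_index_mem (C.subgroupOf N) (⟨g, hg⟩ : N)
    rw [Subgroup.index_eq_card, hQ, Subgroup.mem_subgroupOf] at this
    exact this
  · set q : N ⧸ C.subgroupOf N := ((⟨g, hg⟩ : N) : N ⧸ C.subgroupOf N)
    set r : N ⧸ C.subgroupOf N := ((⟨n, hn⟩ : N) : N ⧸ C.subgroupOf N)
    have hall : r = 1 ∨ r = q ∨ r = q⁻¹ := by
      haveI : Fact (Nat.Prime 3) := ⟨Nat.prime_three⟩
      haveI := Fintype.ofFinite (N ⧸ C.subgroupOf N)
      have hq3 : orderOf q = 3 :=
        orderOf_eq_prime (hQ ▸ pow_card_eq_one') hq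
      have hne : q ≠ q⁻¹ := fun h => by
        have h2 : q ^ 2 = 1 := by
          rw [pow_two]; nth_rw 2 [h]; exact mul_inv_cancel q
        have := orderOf_dvd_of_pow_eq_one h2
        rw [hq3] at this
        omega
      by_contra hcon
      simp only [not_or] at hcon
      have h4 : ({1, q, q⁻¹, r} : Finset (N ⧸ C.subgroupOf N)).card ≤ 3 := by
        rw [← hQ, Nat.card_eq_fintype_card]; exact Finset.card_le_univ _
      rw [Finset.card_insert_of_notMem (by simp [hq, hq.symm, Ne.symm hcon.1]),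
        Finset.card_insert_of_notMem (by simp [hne, Ne.symm hcon.2.1]),
        Finset.card_insert_of_notMem (by simp [Ne.symm hcon.2.2]), Finset.card_singleton] at h4
      omega
    rcases hall with h | h | h
    · exact Or.inl ((hmem n hn).1 h)
    · refine Or.inr (Or.inl ((hmem _ (mul_mem (inv_mem hg) hn)).1 ?_))
      show q⁻¹ * r = 1
      rw [h, inv_mul_cancel]
    · refine Or.inr (Or.inr ((hmem _ (mul_mem hg hn)).1 ?_))
      show q * r = 1
      rw [h, mul_inv_cancel]

/-- An involution does not invert a 2-element of order above two when Sylow subgroups are abelian. -/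
theorem not_inverts {A : Type*} [CommGroup A] (e : (P : Subgroup G) ≃* A) {s y : G}
    (hs : orderOf s = 2) (hy : y ∈ (P : Subgroup G)) (hy2 : y * y ≠ 1) : s * y * s⁻¹ ≠ y⁻¹ := by
  haveI : Fact (Nat.Prime 2) := ⟨Nat.prime_two⟩
  intro h
  have hle : Subgroup.zpowers s ≤ Subgroup.normalizer (Subgroup.zpowers y : Set G) := by
    rw [Subgroup.zpowers_le]
    refine Subgroup.mem_normalizer_iff.2 fun w => ?_
    have hw : ∀ v : G, v ∈ Subgroup.zpowers y → s * v * s⁻¹ ∈ Subgroup.zpowers y := by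
      intro v hv
      obtain ⟨i, rfl⟩ := Subgroup.mem_zpowers_iff.1 hv
      rw [← conj_zpow, h]
      exact zpow_mem (inv_mem (Subgroup.mem_zpowers y)) i
    refine ⟨hw w, fun hv => ?_⟩
    have h' := hw _ hv
    have hss : s * s = 1 := by rw [← pow_two, ← hs, pow_orderOf_eq_one]
    rwa [show s * (s * w * s⁻¹) * s⁻¹ = (s * s) * w * (s * s)⁻¹ by group, hss, one_mul, inv_one,
      mul_one] at h'
  have hY : IsPGroup 2 (Subgroup.zpowers y) := P.isPGroup'.to_le (Subgroup.zpowers_le.2 hy)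
  have hS : IsPGroup 2 (Subgroup.zpowers s) :=
    IsPGroup.of_card (n := 1) (by rw [Nat.card_zpowers, hs, pow_one])
  obtain ⟨Q, hQ⟩ := (hY.to_sup_of_normal_left' hS hle).exists_le_sylow
  obtain ⟨g, hg⟩ := MulAction.exists_smul_eq G Q P
  have hmem : ∀ x ∈ (Q : Subgroup G), g * x * g⁻¹ ∈ (P : Subgroup G) := fun x hx => by
    rw [← hg]; exact ⟨x, hx, rfl⟩
  have hcomm := comm_of_equiv e (hmem s (hQ (le_sup_right (a := Subgroup.zpowers y) (Subgroup.mem_zpowers s))))
    (hmem y (hQ (le_sup_left (b := Subgroup.zpowers s) (Subgroup.mem_zpowers y))))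
  have hsy : s * y = y * s := by
    have h1 : g * (s * y) * g⁻¹ = g * (y * s) * g⁻¹ := by
      rw [show g * (s * y) * g⁻¹ = g * s * g⁻¹ * (g * y * g⁻¹) by group, hcomm]; group
    exact mul_left_cancel (mul_right_cancel h1)
  rw [hsy, mul_inv_cancel_right] at h
  exact hy2 (eq_inv_iff_mul_eq_one.1 h)

end CfsgLib.HomocyclicBlock
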